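import Cfsg.Agent.H603.AP.Rank
import Cfsg.Agent.H508.XR.Defs2

/-!
# S4791, S4927: interface of the classical rows (helper443)

`S` simple classical, `p ≥ 11` not the characteristic, `P` a noncyclic Sylow `p`-subgroup of `S`.

* `PrA p α` : the automorphism `α` has order prime to `p` modulo inner automorphisms;
* `Fam p M S R` : `R` pairwise disjoint integer valued characters with `F ≠ 0`, all constituents in `X₀(S)` invariant;
* `pss P x k` : the form `l ↦ ∑ l(y)^k` (`y ∈ P` conjugate to `x`) of degree `k` on `Hom(P, ℤ/p)`, invariant under `N_S(P)`;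
* `FrmS p S e` : two independent invariant forms of degree `2 e`; `FrmZ p S` : the case `e = 1`;
* `CycOut p S` : `A / S C_A(P)` is cyclic.
-/

set_option autoImplicit false

open Cfsg Subgroup
open Cfsg.Agent.H674.XZ

namespace Cfsg.Agent.H443.XC

universe u

/-- the order of `α` modulo the inner automorphisms is prime to `p` -/
def PrA (p : ℕ) {S : Type u} [Group S] (α : MulAut S) : Prop :=
  ∃ k : ℕ, ¬ p ∣ k ∧ ∃ s : S, α ^ k = MulAut.conj s

/-- `R` disjoint integer valued characters `ψ i` of `S` with `F (ψ i) ≠ 0`, all constituents in `X₀(S)` invariant -/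
def Fam (p : ℕ) (M : Ideal AlgInt) (S : Type u) [Group S] [Finite S] (R : ℕ) : Prop :=
  ∃ (ψ : Fin R → S → ℂ) (c : Fin R → ℤ), ∀ i,
    IsCharacter S (ψ i) ∧ (∀ s, ∃ z : ℤ, ψ i s = z) ∧ FV p M (ψ i) (c i) ∧ ¬ (p : ℤ) ∣ c i ∧
    (∀ j, i ≠ j → ip (ψ i) (ψ j) = 0) ∧
    ∀ θ : IrrCharacter S, Mem0 p M θ → ip (ψ i) (θ : S → ℂ) ≠ 0 →
      ∀ α : MulAut S, PrA p α → ∀ s, (θ : S → ℂ) (α s) = (θ : S → ℂ) s

/-- the form `l ↦ ∑ l(y)^k`, `y ∈ P` conjugate to `x` -/
noncomputable def pss {p : ℕ} {S : Type u} [Group S] (P : Sylow p S) (x : S) (k : ℕ)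
    (l : (P : Subgroup S) →* Multiplicative (ZMod p)) : ZMod p :=
  ∑ᶠ (y : (P : Subgroup S)) (_ : IsConj x (y : S)), (Multiplicative.toAdd (l y)) ^ k

/-- `P` abelian, with two independent forms of degree `2 e`: the square of `pss x e` and `pss x (2 e)` -/
def FrmS (p : ℕ) (S : Type u) [Group S] (e : ℕ) : Prop :=
  ∀ P : Sylow p S, (∀ x ∈ (P : Subgroup S), ∀ y ∈ (P : Subgroup S), x * y = y * x) ∧
    ∃ (x : S) (l₁ l₂ : (P : Subgroup S) →* Multiplicative (ZMod p)), pss P x e l₁ ≠ 0 ∧ pss P x e l₂ ≠ 0 ∧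
      pss P x (2 * e) l₁ * pss P x e l₂ ^ 2 ≠ pss P x (2 * e) l₂ * pss P x e l₁ ^ 2

/-- `P` abelian, with forms of degrees `2`, `3` (`P` in the diagonal torus of `SL_n`, `SU_n`, `3 ≤ n < p`,
`x = diag(a^(n-1), a⁻¹, …, a⁻¹)`) -/
def FrmZ (p : ℕ) (S : Type u) [Group S] : Prop :=
  ∀ P : Sylow p S, (∀ x ∈ (P : Subgroup S), ∀ y ∈ (P : Subgroup S), x * y = y * x) ∧
    ∃ (x : S) (l₁ l₂ : (P : Subgroup S) →* Multiplicative (ZMod p)), pss P x 2 l₁ ≠ 0 ∧ pss P x 3 l₁ ≠ 0 ∧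
      pss P x 2 l₂ ≠ 0 ∧ pss P x 3 l₂ ≠ 0 ∧
      pss P x 2 l₁ ^ 3 * pss P x 3 l₂ ^ 2 ≠ pss P x 2 l₂ ^ 3 * pss P x 3 l₁ ^ 2

/-- `A = ⟨α⟩ S C_A(P)` for every group `A` of automorphisms containing `S` with index prime to `p` -/
def CycOut (p : ℕ) (S : Type u) [Group S] : Prop :=
  ∀ (P : Sylow p S) (A : Subgroup (MulAut S)), (MulAut.conj : S →* MulAut S).range ≤ A →
    ¬ p ∣ (MulAut.conj : S →* MulAut S).range.relIndex A → ∃ α ∈ A, ∀ β ∈ A, ∃ (k : ℕ) (s : S),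
    ∀ x ∈ (P : Subgroup S), β x = s * (α ^ k) x * s⁻¹

/-- the Sylow `p`-subgroups are abelian -/
def AbSyl (p : ℕ) (S : Type u) [Group S] : Prop :=
  ∀ P : Sylow p S, ∀ x ∈ (P : Subgroup S), ∀ y ∈ (P : Subgroup S), x * y = y * x

/-- the block dimension for symplectic and orthogonal groups -/
noncomputable def dSp (p q : ℕ) : ℕ := if Even (orderOf (q : ZMod p)) then orderOf (q : ZMod p) else 2 * orderOf (q : ZMod p)

/-- the block dimension for unitary groups -/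
noncomputable def dSU (p q : ℕ) : ℕ := orderOf (-(q : ZMod p))

/-- the block dimension for linear groups -/
noncomputable def dSL (p q : ℕ) : ℕ := orderOf (q : ZMod p)

end Cfsg.Agent.H443.XC
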