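import Cfsg.Agent.H842.XC.Inv
import Cfsg.Agent.H26.XZ.Gal
import Cfsg.Agent.H324.AP.FrmB
import Cfsg.Agent.H364.XR.Crit

/-!
# S4791, S4927: the classical rows with abelian Sylow subgroups (helper443)

* `le_x0_of_fam_frm` : `R` families and the forms: `R + (c + 1) / 2 * (c - 1) ≤ x0 p M S`;
* `row0_of_fam_frm` : `e ≥ 3`, `e + 1` families, forms: `Row0`;
* `row0_of_frm` : `e ≤ 2`, forms: `Row0`.
-/

set_option autoImplicit false

open Cfsg Subgroup
open Cfsg.Agent.H508.KB Cfsg.Agent.H674.XZ Cfsg.Agent.H668.XZ Cfsg.Agent.H26.XZ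
open Cfsg.Agent.Characters.Core

namespace Cfsg.Agent.H443.XC

universe u

variable {p : ℕ} [hp : Fact p.Prime] {M : Ideal AlgInt} {S : Type u} [Group S] [Finite S]

/-- characters which take integers as values are stable under the powers -/
theorem stable_of_int {ψ : S → ℂ} (h : IsCharacter S ψ) (hz : ∀ s, ∃ z : ℤ, ψ s = z) (u : (ZMod (Nat.card S))ˣ) (g : S) :
    ψ (g ^ ex u) = ψ g :=
  stable_of_rat ⟨ψ, 0, h, isCharacter_zero, by simp⟩ (fun g => by
    obtain ⟨z, hz⟩ := hz g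
    exact ⟨z, by rw [hz]; push_cast; rfl⟩) u g

/-- the families alone -/
theorem le_x0_of_fam {R : ℕ} (h : Fam p M S R) : R ≤ x0 p M S := by
  obtain ⟨ψ, k, h⟩ := h
  have h1 := mix (ι := Empty) (κ := Fin R) (ψ := ψ) (c := k) (M := M) (fun i => (h i).2.2.1) (fun i => (h i).2.2.2.1)
    (fun i j hij => disj_of_orth (h i).1 (h j).1 ((h i).2.2.2.2.1 j hij))
    (fun i u _ g => stable_of_int (h i).1 (h i).2.1 u g) (χ := fun i => i.elim) (fun i => i.elim) (fun i => i.elim)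
    (m := fun i => i.elim) (fun i => i.elim)
  simpa using h1

/-- families and forms -/
theorem le_x0_of_fam_frm (hM : IsPModular p M) (hpS : p ∣ Nat.card S) {e c R : ℕ} (hec : e * c = p - 1) (he : 1 ≤ e)
    (h : Fam p M S R) (hf : Cfsg.Agent.H324.AP.FrmG p S e) : R + (c + 1) / 2 * (c - 1) ≤ x0 p M S := by
  rcases Nat.lt_or_ge c 2 with hc | hc
  · have h1 := le_x0_of_fam h
    have h2 : c - 1 = 0 := by omega
    rw [h2]
    omega
  obtain ⟨hab, h1⟩ := hf default
  obtain ⟨f, h2, h3, h4⟩ := h1 c hec hc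
  obtain ⟨ψ, k, h⟩ := h
  have h5 : p - 1 - e = e * (c - 1) := by rw [← hec, Nat.mul_sub, mul_one]
  have h6 : 1 ≤ c - 1 := by omega
  have h7 : e ≤ e * (c - 1) := Nat.le_mul_of_pos_right e h6
  have h8 : Nat.gcd (p - 1 - e) (p - 1) = e := by
    have h9 : Nat.gcd (c - 1) c = 1 := by
      have h10 : c = c - 1 + 1 := by omega
      conv_lhs => rw [h10]
      simp
    rw [h5, ← hec, Nat.gcd_mul_left, h9, mul_one]
  have h9 := mix_gal hM hpS hab (D := p - 1 - e) (by omega) (by omega) h2 h3 h4 (ψ := ψ) (c := k) (fun i => (h i).2.2.1)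
    (fun i => (h i).2.2.2.1) (fun i j hij => disj_of_orth (h i).1 (h j).1 ((h i).2.2.2.2.1 j hij))
    (fun i u _ g => stable_of_int (h i).1 (h i).2.1 u g)
  have h10 : (p - 1) / e = c := by
    rw [← hec]
    exact Nat.mul_div_cancel_left c he
  rw [h8, h10, Nat.card_eq_fintype_card, Nat.card_eq_fintype_card, Fintype.card_fin, Fintype.card_fin] at h9
  have h11 : (c + 1) / 2 * c = (c + 1) / 2 * (c - 1) + (c + 1) / 2 := by
    conv_lhs => rw [show c = c - 1 + 1 from by omega]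
    rw [show c - 1 + 1 + 1 = c + 1 from by omega, mul_add, mul_one]
  omega

/-- **`P` abelian, `e ≥ 3`** : `e + 1` families and the forms -/
theorem row0_of_fam_frm (hM : IsPModular p M) (hpS : p ∣ Nat.card S) (hab : AbOut p S) {e c R : ℕ}
    (hec : e * c = p - 1) (he : 3 ≤ e) (hR : e + 1 ≤ R) (h : Fam p M S R) (hf : Cfsg.Agent.H324.AP.FrmG p S e) :
    Row0 p M S :=
  H842.XC.row0_of_fam_inv hM hab hec he hR (le_x0_of_fam_frm hM hpS hec (by omega) h hf) h

omit hp in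
/-- no family -/
theorem fam_zero : Fam p M S 0 :=
  ⟨fun i => i.elim0, fun i => i.elim0, fun i => i.elim0⟩

/-- **`P` abelian, `e ≤ 2`** : the forms alone -/
theorem row0_of_frm (hM : IsPModular p M) (h11 : 11 ≤ p) (hpS : p ∣ Nat.card S) (hab : AbOut p S) {e c : ℕ}
    (hec : e * c = p - 1) (he1 : 1 ≤ e) (he : e ≤ 2) (hf : Cfsg.Agent.H324.AP.FrmG p S e) : Row0 p M S := by
  refine Cfsg.Agent.H364.XR.row_of_ab hM hab ?_
  have h1 := le_x0_of_fam_frm hM hpS hec he1 fam_zero hf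
  refine le_trans ?_ h1
  have h2 : 5 ≤ c := by
    by_contra h3
    have h4 : e * c ≤ 2 * 4 := Nat.mul_le_mul he (by omega)
    omega
  have h3 : p = e * c + 1 := by omega
  have h4 : e * c ≤ 2 * c := Nat.mul_le_mul_right c he
  have h5 : 3 ≤ (c + 1) / 2 := by omega
  have h6 : 3 * (c - 1) ≤ (c + 1) / 2 * (c - 1) := Nat.mul_le_mul_right _ h5
  omega

end Cfsg.Agent.H443.XC
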